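import Mathlib.RingTheory.Flat.FaithfullyFlat.Basic
import Mathlib.RingTheory.TensorProduct.Maps
import Mathlib.RingTheory.Flat.FaithfullyFlat.Algebra

/-!
# Exactness of the extended Amitsur complex in low degrees
-/

universe u

open TensorProduct

namespace Groth.Agent.Amitsur12

variable {R A : Type u} [CommRing R] [CommRing A] [Algebra R A]

theorem exact_of_homotopy [Module.FaithfullyFlat R A] {N₁ N₂ N₃ : Type u} [AddCommGroup N₁] [Module R N₁]
    [AddCommGroup N₂] [Module R N₂] [AddCommGroup N₃] [Module R N₃]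
    (f : N₁ →ₗ[R] N₂) (g : N₂ →ₗ[R] N₃) (hgf : g ∘ₗ f = 0)
    (t : A ⊗[R] N₂ →ₗ[R] A ⊗[R] N₁) (s : A ⊗[R] N₃ →ₗ[R] A ⊗[R] N₂)
    (h : s ∘ₗ g.lTensor A + f.lTensor A ∘ₗ t = LinearMap.id) : Function.Exact f g := by
  refine (Module.FaithfullyFlat.lTensor_exact_iff_exact R A f g).1 fun y => ⟨fun hy => ?_, ?_⟩
  · refine ⟨t y, ?_⟩
    have := LinearMap.congr_fun h y
    simpa [hy] using this
  · rintro ⟨x, rfl⟩
    rw [← LinearMap.comp_apply, ← LinearMap.lTensor_comp, hgf, LinearMap.lTensor_zero,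
      LinearMap.zero_apply]

variable (R A)

/-- Multiplication of the outer factors. -/
noncomputable def mult (X : Type u) [AddCommGroup X] [Module R X] :
    A ⊗[R] (A ⊗[R] X) →ₗ[R] A ⊗[R] X :=
  (LinearMap.mul' R A).rTensor X ∘ₗ (TensorProduct.assoc R A A X).symm.toLinearMap

@[simp] theorem mult_tmul (X : Type u) [AddCommGroup X] [Module R X] (a b : A) (x : X) :
    mult R A X (a ⊗ₜ (b ⊗ₜ x)) = (a * b) ⊗ₜ x := by
  simp [mult]

/-- Multiplication of the outer factors with a module in between. -/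
noncomputable def mult' (M X : Type u) [AddCommGroup M] [Module R M] [AddCommGroup X] [Module R X] :
    A ⊗[R] (M ⊗[R] (A ⊗[R] X)) →ₗ[R] A ⊗[R] (M ⊗[R] X) :=
  mult R A (M ⊗[R] X) ∘ₗ (TensorProduct.leftComm R M A X).toLinearMap.lTensor A

@[simp] theorem mult'_tmul (M X : Type u) [AddCommGroup M] [Module R M] [AddCommGroup X] [Module R X]
    (a b : A) (m : M) (x : X) : mult' R A M X (a ⊗ₜ (m ⊗ₜ (b ⊗ₜ x))) = (a * b) ⊗ₜ (m ⊗ₜ x) := by
  simp [mult']

variable [Module.FaithfullyFlat R A] (M : Type u) [AddCommGroup M] [Module R M]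

/-- The extended Amitsur complex is exact in degree zero. -/
theorem exact_zero : Function.Exact (TensorProduct.mk R A M 1)
    (TensorProduct.mk R A (A ⊗[R] M) 1 - LinearMap.lTensor A (TensorProduct.mk R A M 1)) := by
  refine exact_of_homotopy _ _ ?_ (mult R A M) (mult R A (A ⊗[R] M)) ?_
  · ext m; simp
  · ext a b m
    simp [sub_add_cancel]

/-- The Amitsur complex is exact in degree one. -/
theorem exact_one : Function.Exact
    (LinearMap.lTensor M (Algebra.TensorProduct.includeRight : A →ₐ[R] A ⊗[R] A).toLinearMap -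
      LinearMap.lTensor M (Algebra.TensorProduct.includeLeft : A →ₐ[R] A ⊗[R] A).toLinearMap)
    (LinearMap.lTensor M
        (Algebra.TensorProduct.includeRight : A ⊗[R] A →ₐ[R] A ⊗[R] (A ⊗[R] A)).toLinearMap -
      LinearMap.lTensor M (Algebra.TensorProduct.map (AlgHom.id R A)
          (Algebra.TensorProduct.includeRight : A →ₐ[R] A ⊗[R] A)).toLinearMap +
      LinearMap.lTensor M (Algebra.TensorProduct.map (AlgHom.id R A)
          (Algebra.TensorProduct.includeLeft : A →ₐ[R] A ⊗[R] A)).toLinearMap) := by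
  refine exact_of_homotopy (A := A) _ _ ?_ (mult' R A M A) (mult' R A M (A ⊗[R] A)) ?_
  · ext m r
    simp
  · ext a m x y
    simp

/-- Morphisms descend along faithfully flat maps. -/
theorem existsUnique_baseChange (N : Type u) [AddCommGroup N] [Module R N]
    (f : A ⊗[R] M →ₗ[A] A ⊗[R] N)
    (hf : ∀ m : M,
      LinearMap.rTensor N (Algebra.TensorProduct.includeLeft : A →ₐ[R] A ⊗[R] A).toLinearMap (f (1 ⊗ₜ[R] m)) =
        LinearMap.rTensor N (Algebra.TensorProduct.includeRight : A →ₐ[R] A ⊗[R] A).toLinearMap (f (1 ⊗ₜ[R] m))) :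
    ∃! h : M →ₗ[R] N, h.baseChange A = f := by
  have hinj : Function.Injective (TensorProduct.mk R A N 1) :=
    Module.FaithfullyFlat.tensorProduct_mk_injective N
  let d := TensorProduct.mk R A (A ⊗[R] N) 1 - LinearMap.lTensor A (TensorProduct.mk R A N 1)
  have e : ∀ x : A ⊗[R] N, d x = TensorProduct.assoc R A A N
      (LinearMap.rTensor N (Algebra.TensorProduct.includeRight : A →ₐ[R] A ⊗[R] A).toLinearMap x -
        LinearMap.rTensor N (Algebra.TensorProduct.includeLeft : A →ₐ[R] A ⊗[R] A).toLinearMap x) := by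
    intro x
    induction x using TensorProduct.induction_on with
    | zero => simp
    | tmul a n => simp [d, map_sub]
    | add x y hx hy => rw [map_add, hx, hy, ← map_add]; congr 1; simp only [map_add]; abel
  have hm : ∀ m : M, f (1 ⊗ₜ m) ∈ LinearMap.range (TensorProduct.mk R A N 1) := fun m =>
    ((exact_zero R A N) (f (1 ⊗ₜ m))).1 (by
      show d _ = 0
      rw [e, hf m, sub_self, map_zero])
  let fR : M →ₗ[R] A ⊗[R] N := (f.restrictScalars R) ∘ₗ TensorProduct.mk R A M 1
  let E := LinearEquiv.ofInjective (TensorProduct.mk R A N 1) hinj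
  refine ⟨E.symm.toLinearMap ∘ₗ fR.codRestrict _ hm, ?_, fun h hh => ?_⟩
  · refine AlgebraTensorModule.ext fun a m => ?_
    have h1 : (1 : A) ⊗ₜ[R] (E.symm ⟨f (1 ⊗ₜ m), hm m⟩) = f (1 ⊗ₜ m) :=
      congrArg Subtype.val (E.apply_symm_apply ⟨f (1 ⊗ₜ m), hm m⟩)
    calc _ = a ⊗ₜ[R] (E.symm ⟨f (1 ⊗ₜ m), hm m⟩) := rfl
      _ = a • ((1 : A) ⊗ₜ[R] (E.symm ⟨f (1 ⊗ₜ m), hm m⟩)) := by
        rw [TensorProduct.smul_tmul', smul_eq_mul, mul_one]
      _ = _ := by rw [h1, ← map_smul, TensorProduct.smul_tmul', smul_eq_mul, mul_one]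
  · subst hh
    ext m
    refine hinj ?_
    exact (congrArg Subtype.val (E.apply_symm_apply ⟨_, hm m⟩)).symm

end Groth.Agent.Amitsur12
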